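import Mathlib
import Cfsg.Agent.H691.AN.Defs
import Cfsg.Agent.H424.DegTools
import Cfsg.Agent.CharDeep.PowerDegrees
import Cfsg.Agent.CharactersDeep.MaxInduced
import Cfsg.Agent.Characters.Values

/-!
# S4766, piece B6: the Frobenius section (helper866)

`A` is a normal subgroup of `G` of index `m` containing `G'`, every degree of `G` dividing `m` is `1` or `m`, every
`q`-group quotient of `G` is abelian, and `G` has an irreducible character of degree `m` with `[A, A]` in its kernel: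
`b6_frob` gives a chief factor `A / N` on which `G / A` acts freely.

Modulo `[A, A]` every degree divides `m` (Itô), so every subgroup `L > A` has `L' = G'` (`comm_le`: a linear character
of `L` nontrivial on `G'` would lie under a character of degree `1`). With a prime `q` dividing `|G'|`, a prime
`p ≠ q` dividing `m` and `x ∉ A` with `x ^ p ∈ A`, the subgroup `K` of the `a ∈ A` such that the `q`-part of `[x, a]`
is trivial is a proper supplement of `G'` in `A`.
-/

set_option autoImplicit false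

namespace Cfsg.Agent.H866.AN

open Cfsg Cfsg.Agent.H691.AN Cfsg.Agent.Characters.Core Cfsg.Agent.Characters.Linear

universe u

/-! ### Characters -/

section Chars

variable {G : Type u} [Group G]

/-- A linear character which is nontrivial at an element outside the commutator subgroup. -/
theorem exists_lin [Finite G] {y : G} (hy : y ∉ commutator G) : ∃ μ : G →* ℂˣ, μ y ≠ 1 := by
  have : Finite (Abelianization G) :=
    Finite.of_surjective (QuotientGroup.mk' (commutator G)) (QuotientGroup.mk'_surjective _)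
  have h1 : Abelianization.of y ≠ 1 := by
    intro h
    apply hy
    rw [← Abelianization.ker_of, MonoidHom.mem_ker]
    exact h
  obtain ⟨f, hf⟩ := CommGroup.exists_apply_ne_one_of_hasEnoughRootsOfUnity (Abelianization G) ℂ h1
  exact ⟨f.comp Abelianization.of, hf⟩

/-- Subgroups properly containing `A` have the same commutator subgroup as `G`. -/
theorem comm_le [Finite G] {m : ℕ} (hdiv : ∀ d ∈ charDegrees G, d ∣ m → d = 1 ∨ d = m)
    (A : Subgroup G) (hA : A.Normal) (hcA : commutator G ≤ A) (hi : A.index = m)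
    (hab : ∀ a ∈ A, ∀ b ∈ A, a * b = b * a) (L : Subgroup G) (hAL : A ≤ L) (hne : L ≠ A) :
    commutator G ≤ ⁅L, L⁆ := by
  classical
  have := Fintype.ofFinite G
  have hLn : L.Normal := by
    constructor
    intro n hn g
    have h1 : g * n * g⁻¹ * n⁻¹ ∈ L := hAL (hcA (Subgroup.commutator_mem_commutator (Subgroup.mem_top g) (Subgroup.mem_top n)))
    have h2 := L.mul_mem h1 hn
    simpa using h2
  have := Fintype.ofFinite L
  intro y hy
  by_contra hyL
  have hyL' : y ∈ L := hAL (hcA hy)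
  have h1 : (⟨y, hyL'⟩ : L) ∉ commutator L := by
    intro h
    apply hyL
    have h2 := Subgroup.mem_map_of_mem L.subtype h
    rwa [Subgroup.map_subtype_commutator] at h2
  obtain ⟨μ, hμ⟩ := exists_lin h1
  obtain ⟨ψ, hψ, hne0⟩ := Cfsg.Agent.CharDeep.PowerDegrees.exists_irr_over L (isIrrCharacter_hom μ)
  obtain ⟨d, hd0, hd⟩ := isIrr_apply_one hψ
  have h2 := S0887.result L ψ hψ _ (isIrrCharacter_hom μ) hne0 d 1 hd (by simp)
  rw [Nat.div_one] at h2
  have hdm : d ∈ charDegrees G := H424.DegTools.mem_charDegrees.2 ⟨ψ, hψ, hd⟩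
  have hdd : d ∣ m := by
    have := H424.DegTools.ito hdm A hab
    rwa [hi] at this
  have hri := Subgroup.relIndex_mul_index hAL
  have hrne : A.relIndex L ≠ 1 := by
    intro h
    rw [Subgroup.relIndex_eq_one] at h
    exact hne (le_antisymm h hAL)
  have hd1 : d = 1 := by
    rcases hdiv d hdm hdd with h | h
    · exact h
    · exfalso
      rw [h, ← hi, ← hri] at h2
      have h3 : 0 < L.index := Nat.pos_of_ne_zero Subgroup.index_ne_zero_of_finite
      have h4 := Nat.le_of_dvd h3 h2.2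
      have h5 : A.relIndex L ≠ 0 := by
        intro h0
        rw [h0, zero_mul] at hri
        exact Subgroup.index_ne_zero_of_finite (H := A) hri.symm
      have h6 : 2 ≤ A.relIndex L := by omega
      nlinarith
  subst hd1
  obtain ⟨f, rfl⟩ := exists_hom_of_isIrrCharacter hψ (by simpa using hd)
  have h3 : (fun n : L => (f (n : G) : ℂ)) = fun n => (μ n : ℂ) := by
    by_contra hcon
    exact hne0 (classInner_irr_ne (isIrrCharacter_hom (f.comp L.subtype)) (isIrrCharacter_hom μ) hcon)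
  have h4 : f y = 1 := Abelianization.commutator_subset_ker f hy
  apply hμ
  have h5 := congrFun h3 ⟨y, hyL'⟩
  rw [h4] at h5
  exact Units.ext h5.symm

/-- A character of degree larger than `1` whose kernel contains `N` forces `G / N` to be nonabelian. -/
theorem not_comm_le [Finite G] {m : ℕ} (hm1 : 1 < m) (N : Subgroup G) [N.Normal]
    {χ : G → ℂ} (hχ : IsIrrCharacter G χ) (h1 : χ 1 = (m : ℕ)) (hN : ∀ g ∈ N, χ g = χ 1) :
    ¬ commutator G ≤ N := by
  intro hle
  have hχ2 := hχ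
  obtain ⟨k, ρ, hρ, hρβ⟩ := hχ2
  have hker : ∀ z ∈ N, ρ z = 1 := by
    intro z hz
    have h1 : ρ z = LinearMap.id := by
      rw [← Cfsg.Agent.Characters.Values.character_eq_finrank_iff, hρβ, hN z hz, ← hρβ]
      simp
    exact h1
  let ρ' : Representation ℂ (G ⧸ N) (Fin k → ℂ) := QuotientGroup.lift N ρ hker
  have h2 : χ = ρ'.character ∘ QuotientGroup.mk' N := by
    rw [← hρβ]
    rfl
  have h3 : IsIrrCharacter (G ⧸ N) ρ'.character :=
    Cfsg.Agent.CharactersDeep.MaxInduced.isIrr_of_comp (QuotientGroup.mk' N) ⟨k, ρ', rfl⟩ (by rw [← h2]; exact hχ)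
  have h4 : m ∈ charDegrees (G ⧸ N) := by
    refine H424.DegTools.mem_charDegrees.2 ⟨_, h3, ?_⟩
    rw [← h1, h2]
    simp
  have h5 := H424.DegTools.ito h4 ⊤ (by
    intro a _ b _
    induction a using QuotientGroup.induction_on with
    | H a =>
    induction b using QuotientGroup.induction_on with
    | H b =>
    rw [← QuotientGroup.mk_mul, ← QuotientGroup.mk_mul, QuotientGroup.eq]
    have h := hle (Subgroup.commutator_mem_commutator (Subgroup.mem_top b⁻¹) (Subgroup.mem_top a⁻¹))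
    rw [commutatorElement_def] at h
    have e : (a * b)⁻¹ * (b * a) = b⁻¹ * a⁻¹ * b⁻¹⁻¹ * a⁻¹⁻¹ := by group
    rw [e]
    exact h)
  rw [Subgroup.index_top] at h5
  exact absurd (Nat.dvd_one.1 h5) hm1.ne'

end Chars

/-! ### Groups -/

section Grp

variable {G : Type u} [Group G]

/-- The preimage in `A` of `N` under a map which is multiplicative on `A`. -/
def pull (A N : Subgroup G) (φ : G → G) (h1 : ∀ a ∈ A, ∀ b ∈ A, φ (a * b) = φ a * φ b) : Subgroup G where
  carrier := {a | a ∈ A ∧ φ a ∈ N}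
  one_mem' := by
    refine ⟨A.one_mem, ?_⟩
    have h := h1 1 A.one_mem 1 A.one_mem
    rw [mul_one] at h
    rw [left_eq_mul.1 h]
    exact N.one_mem
  mul_mem' := by
    rintro a b ⟨ha, ha'⟩ ⟨hb, hb'⟩
    refine ⟨A.mul_mem ha hb, ?_⟩
    rw [h1 a ha b hb]
    exact N.mul_mem ha' hb'
  inv_mem' := by
    rintro a ⟨ha, ha'⟩
    refine ⟨A.inv_mem ha, ?_⟩
    have h := h1 1 A.one_mem 1 A.one_mem
    rw [mul_one] at h
    have h0 := left_eq_mul.1 h
    have h2 := h1 a ha a⁻¹ (A.inv_mem ha)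
    rw [mul_inv_cancel, h0] at h2
    rw [← inv_eq_of_mul_eq_one_right h2.symm]
    exact N.inv_mem ha'

theorem mem_pull {A N : Subgroup G} {φ : G → G} {h1 : ∀ a ∈ A, ∀ b ∈ A, φ (a * b) = φ a * φ b} {a : G} :
    a ∈ pull A N φ h1 ↔ a ∈ A ∧ φ a ∈ N := Iff.rfl

theorem pull_normal {A N : Subgroup G} (hA : A.Normal) (hN : N.Normal) {φ : G → G}
    {h1 : ∀ a ∈ A, ∀ b ∈ A, φ (a * b) = φ a * φ b} (h2 : ∀ g, ∀ a ∈ A, φ (g * a * g⁻¹) = g * φ a * g⁻¹) :
    (pull A N φ h1).Normal := by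
  constructor
  rintro n ⟨hn, hn'⟩ g
  refine ⟨hA.conj_mem n hn g, ?_⟩
  rw [h2 g n hn]
  exact hN.conj_mem _ hn' g

/-- If `A` is abelian and `[x, A] ≤ Q` then `A ⟨x⟩` is abelian modulo `Q`. -/
theorem comm_sup_le {A Q : Subgroup G} [hQ : Q.Normal] (hab : ∀ a ∈ A, ∀ b ∈ A, a * b = b * a) {x : G}
    (hx : ∀ a ∈ A, x * a * x⁻¹ * a⁻¹ ∈ Q) : ⁅A ⊔ Subgroup.zpowers x, A ⊔ Subgroup.zpowers x⁆ ≤ Q := by
  have hker : Q = (QuotientGroup.mk' Q).ker := (QuotientGroup.ker_mk' Q).symm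
  conv_rhs => rw [hker]
  rw [← Subgroup.map_eq_bot_iff, Subgroup.map_commutator, Subgroup.commutator_eq_bot_iff_le_centralizer,
    Subgroup.map_sup, MonoidHom.map_zpowers]
  set B := A.map (QuotientGroup.mk' Q) with hB
  set y := QuotientGroup.mk' Q x with hy
  have h1 : B ≤ Subgroup.centralizer (B : Set (G ⧸ Q)) := by
    rintro _ ⟨a, ha, rfl⟩
    rw [Subgroup.mem_centralizer_iff]
    rintro _ ⟨b, hb, rfl⟩
    rw [← map_mul, ← map_mul, hab b hb a ha]
  have h2 : y ∈ Subgroup.centralizer (B : Set (G ⧸ Q)) := by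
    rw [Subgroup.mem_centralizer_iff]
    rintro _ ⟨b, hb, rfl⟩
    rw [hy, ← map_mul, ← map_mul]
    refine (QuotientGroup.eq.2 ?_).symm
    have h := hQ.conj_mem _ (hx b hb) (x * b)⁻¹
    have e : (x * b)⁻¹ * (x * b * x⁻¹ * b⁻¹) * (x * b)⁻¹⁻¹ = (b * x)⁻¹ * (x * b) := by group
    rw [e] at h
    have e2 : (x * b)⁻¹ * (b * x) = ((b * x)⁻¹ * (x * b))⁻¹ := by group
    rw [e2]
    exact Q.inv_mem h
  have h3 : B ⊔ Subgroup.zpowers y ≤ Subgroup.centralizer (B : Set (G ⧸ Q)) :=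
    sup_le h1 (by rwa [Subgroup.zpowers_le])
  have h4 : B ≤ Subgroup.centralizer ((B ⊔ Subgroup.zpowers y : Subgroup (G ⧸ Q)) : Set (G ⧸ Q)) :=
    Subgroup.le_centralizer_iff.1 h3
  refine sup_le h4 ?_
  rw [Subgroup.le_centralizer_iff]
  refine sup_le ?_ ?_
  · rw [Subgroup.le_centralizer_iff, Subgroup.zpowers_le]
    exact h2
  · rw [Subgroup.le_centralizer_iff]
    intro z hz
    obtain ⟨i, rfl⟩ := Subgroup.mem_zpowers_iff.1 hz
    rw [Subgroup.mem_centralizer_iff]
    intro w hw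
    obtain ⟨j, rfl⟩ := Subgroup.mem_zpowers_iff.1 hw
    rw [← zpow_add, ← zpow_add, add_comm]

end Grp

/-! ### The chief factor, `A` abelian -/

/-- The case `[A, A] = 1`. -/
theorem frob_abelian {G : Type u} [Group G] [Finite G]
    (hpq : ∀ (q : ℕ) (K : Subgroup G) [K.Normal], q.Prime → IsPGroup q (G ⧸ K) → commutator G ≤ K)
    (A : Subgroup G) (hA : A.Normal) (hcA : commutator G ≤ A) (hAt : A ≠ ⊤)
    (hab : ∀ a ∈ A, ∀ b ∈ A, a * b = b * a)
    (hL : ∀ L : Subgroup G, A ≤ L → L ≠ A → commutator G ≤ ⁅L, L⁆)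
    (hG : commutator G ≠ ⊥) : ∃ (N : Subgroup G) (q a : ℕ), Frob G N A q a := by
  classical
  have h1 : Nat.card (commutator G) ≠ 1 := by rwa [Ne, Subgroup.card_eq_one]
  obtain ⟨q, hq, hqd⟩ := Nat.exists_prime_and_dvd h1
  have := Fact.mk hq
  obtain ⟨n, hn⟩ : ∃ n, n = Nat.card A := ⟨_, rfl⟩
  have hn0 : n ≠ 0 := by rw [hn]; exact Nat.card_pos.ne'
  obtain ⟨k, s, hrk, hqk⟩ : ∃ k s : ℕ, q ^ s * k = n ∧ ¬ q ∣ k :=
    ⟨_, _, Nat.ordProj_mul_ordCompl_eq_self n q, Nat.not_dvd_ordCompl hq hn0⟩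
  have hpown : ∀ a ∈ A, a ^ n = 1 := by
    intro a ha
    have h := pow_card_eq_one' (x := (⟨a, ha⟩ : A))
    rw [← hn] at h
    exact congrArg Subtype.val h
  have hmulpow : ∀ (j : ℕ), ∀ a ∈ A, ∀ b ∈ A, (a * b) ^ j = a ^ j * b ^ j :=
    fun j a ha b hb => Commute.mul_pow (hab a ha b hb) j
  have hconjpow : ∀ (j : ℕ) (g : G), ∀ a ∈ A, (g * a * g⁻¹) ^ j = g * a ^ j * g⁻¹ := fun j g a _ => conj_pow
  have hφmul : ∀ x : G, ∀ a ∈ A, ∀ b ∈ A, x * (a * b) * x⁻¹ * (a * b)⁻¹ =
      (x * a * x⁻¹ * a⁻¹) * (x * b * x⁻¹ * b⁻¹) := by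
    intro x a ha b hb
    have hu : x * b * x⁻¹ * b⁻¹ ∈ A := A.mul_mem (hA.conj_mem b hb x) (A.inv_mem hb)
    have h := hab _ hu a⁻¹ (A.inv_mem ha)
    calc x * (a * b) * x⁻¹ * (a * b)⁻¹ = (x * a * x⁻¹) * ((x * b * x⁻¹ * b⁻¹) * a⁻¹) := by group
      _ = (x * a * x⁻¹) * (a⁻¹ * (x * b * x⁻¹ * b⁻¹)) := by rw [h]
      _ = (x * a * x⁻¹ * a⁻¹) * (x * b * x⁻¹ * b⁻¹) := by group
  have hcomm : ∀ g h : G, g * h * g⁻¹ * h⁻¹ ∈ A := fun g h =>
    hcA (Subgroup.commutator_mem_commutator (Subgroup.mem_top g) (Subgroup.mem_top h))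
  have hφconj : ∀ x g : G, ∀ a ∈ A, x * (g * a * g⁻¹) * x⁻¹ * (g * a * g⁻¹)⁻¹ =
      g * (x * a * x⁻¹ * a⁻¹) * g⁻¹ := by
    intro x g a ha
    have hc := hcomm x⁻¹ g⁻¹
    rw [inv_inv, inv_inv] at hc
    have h := hab _ hc a ha
    calc x * (g * a * g⁻¹) * x⁻¹ * (g * a * g⁻¹)⁻¹
        = g * (x * (((x⁻¹ * g⁻¹ * x * g) * a) * (x⁻¹ * g⁻¹ * x * g)⁻¹) * x⁻¹ * a⁻¹) * g⁻¹ := by group
      _ = g * (x * ((a * (x⁻¹ * g⁻¹ * x * g)) * (x⁻¹ * g⁻¹ * x * g)⁻¹) * x⁻¹ * a⁻¹) * g⁻¹ := by rw [h]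
      _ = g * (x * a * x⁻¹ * a⁻¹) * g⁻¹ := by group
  have hφpow : ∀ (x : G) (j : ℕ), ∀ a ∈ A, x * a ^ j * x⁻¹ * (a ^ j)⁻¹ = (x * a * x⁻¹ * a⁻¹) ^ j := by
    intro x j a ha
    rw [hmulpow j _ (hA.conj_mem a ha x) _ (A.inv_mem ha), conj_pow, inv_pow]
  -- the `q'`-part of `A`
  let Q : Subgroup G := pull A ⊥ (fun a => a ^ k) (hmulpow k)
  have hQn : Q.Normal := pull_normal hA inferInstance (hconjpow k)
  have memQ : ∀ a, a ∈ Q ↔ a ∈ A ∧ a ^ k = 1 := fun a => Iff.rfl
  have b1 : ¬ commutator G ≤ Q := by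
    intro h
    obtain ⟨y, hy⟩ := exists_prime_orderOf_dvd_card' q hqd
    have h2 : orderOf (y : G) ∣ k := orderOf_dvd_of_pow_eq_one ((memQ y).1 (h y.2)).2
    rw [Subgroup.orderOf_coe, hy] at h2
    exact hqk h2
  -- a prime `p ≠ q` dividing the index
  have hp : ∃ p, p.Prime ∧ p ∣ A.index ∧ p ≠ q := by
    by_contra hcon
    push Not at hcon
    have h2 : A.index = q ^ A.index.primeFactorsList.length :=
      Nat.eq_prime_pow_of_unique_prime_dvd Subgroup.index_ne_zero_of_finite (fun {d} hd hd2 => hcon d hd hd2)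
    apply b1
    apply hpq q Q hq
    intro g
    induction g using QuotientGroup.induction_on with
    | H g =>
    refine ⟨A.index.primeFactorsList.length + s, ?_⟩
    rw [← QuotientGroup.mk_pow, QuotientGroup.eq_one_iff, memQ, pow_add, ← h2, pow_mul]
    have h3 : g ^ A.index ∈ A := by
      have := hA
      exact A.pow_index_mem g
    refine ⟨A.pow_mem h3 _, ?_⟩
    rw [← pow_mul _ (q ^ s) k, hrk]
    exact hpown _ h3
  obtain ⟨p, hp, hpd, hpq'⟩ := hp
  have := Fact.mk hp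
  obtain ⟨x, hxA, hxp⟩ : ∃ x : G, x ∉ A ∧ x ^ p ∈ A := by
    have := hA
    obtain ⟨y, hy⟩ := exists_prime_orderOf_dvd_card' (G := G ⧸ A) p hpd
    obtain ⟨x, rfl⟩ := QuotientGroup.mk_surjective y
    refine ⟨x, ?_, ?_⟩
    · intro hx
      rw [(QuotientGroup.eq_one_iff x).2 hx, orderOf_one] at hy
      exact hp.one_lt.ne hy
    · rw [← QuotientGroup.eq_one_iff, QuotientGroup.mk_pow, ← hy]
      exact pow_orderOf_eq_one _
  have hsup : ∀ (R : Subgroup G), R.Normal → ∀ z : G, z ∉ A → (∀ a ∈ A, z * a * z⁻¹ * a⁻¹ ∈ R) →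
      commutator G ≤ R := by
    intro R hR z hz hz2
    refine (hL (A ⊔ Subgroup.zpowers z) le_sup_left ?_).trans (comm_sup_le hab hz2)
    intro h
    apply hz
    rw [← h]
    exact (le_sup_right : Subgroup.zpowers z ≤ A ⊔ Subgroup.zpowers z) (Subgroup.mem_zpowers z)
  -- the supplement
  let K : Subgroup G := pull A Q (fun a => x * a * x⁻¹ * a⁻¹) (hφmul x)
  have hKn : K.Normal := pull_normal hA hQn (hφconj x)
  have memK : ∀ a, a ∈ K ↔ a ∈ A ∧ x * a * x⁻¹ * a⁻¹ ∈ Q := fun a => Iff.rfl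
  have hKA : K ≤ A := fun a ha => ((memK a).1 ha).1
  have hKne : K ≠ A := by
    intro h
    exact b1 (hsup Q hQn x hxA fun a ha => by
      rw [← h] at ha
      exact ((memK a).1 ha).2)
  have hKr : ∀ a ∈ A, a ^ q ^ s ∈ K := by
    intro a ha
    rw [memK]
    refine ⟨A.pow_mem ha _, ?_⟩
    have hu : x * a * x⁻¹ * a⁻¹ ∈ A := A.mul_mem (hA.conj_mem a ha x) (A.inv_mem ha)
    rw [hφpow x _ a ha, memQ]
    refine ⟨A.pow_mem hu _, ?_⟩
    rw [← pow_mul, hrk]
    exact hpown _ hu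
  have hKp : ∀ a ∈ A, a ^ p ∈ commutator G ⊔ K := by
    intro a ha
    have hax : (a * x) ^ p ∈ A := by
      have := hA
      rw [← QuotientGroup.eq_one_iff, QuotientGroup.mk_pow, QuotientGroup.mk_mul, (QuotientGroup.eq_one_iff a).2 ha,
        one_mul, ← QuotientGroup.mk_pow, (QuotientGroup.eq_one_iff _).2 hxp]
    have hν : (a * x) ^ p * (x ^ p)⁻¹ ∈ K := by
      rw [memK]
      refine ⟨A.mul_mem hax (A.inv_mem hxp), ?_⟩
      have e1 : x * (a * x) ^ p * x⁻¹ = (a * x) ^ p := by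
        have h2 : x * (a * x) ^ p * x⁻¹ = a⁻¹ * (a * x) ^ p * a := by
          have h3 : (a⁻¹ * (a * x) * a⁻¹⁻¹) ^ p = a⁻¹ * (a * x) ^ p * a⁻¹⁻¹ := conj_pow
          rw [inv_inv] at h3
          rw [← conj_pow, ← h3]
          congr 1
          group
        rw [h2, mul_assoc, hab _ hax _ ha, ← mul_assoc, inv_mul_cancel, one_mul]
      have e2 : x * ((a * x) ^ p * (x ^ p)⁻¹) * x⁻¹ * ((a * x) ^ p * (x ^ p)⁻¹)⁻¹ = 1 := by
        have h2 : x * ((a * x) ^ p * (x ^ p)⁻¹) * x⁻¹ = (x * (a * x) ^ p * x⁻¹) * (x ^ p)⁻¹ := by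
          have h3 : x * (x ^ p)⁻¹ * x⁻¹ = (x ^ p)⁻¹ := by
            have h4 : Commute x (x ^ p)⁻¹ := (Commute.self_pow x p).inv_right
            rw [h4.eq, mul_inv_cancel_right]
          calc x * ((a * x) ^ p * (x ^ p)⁻¹) * x⁻¹ = (x * (a * x) ^ p * x⁻¹) * (x * (x ^ p)⁻¹ * x⁻¹) := by group
            _ = _ := by rw [h3]
        rw [h2, e1, mul_inv_cancel]
      rw [e2]
      exact Q.one_mem
    have hG' : a ^ p * ((a * x) ^ p * (x ^ p)⁻¹)⁻¹ ∈ commutator G := by
      rw [← Abelianization.ker_of, MonoidHom.mem_ker]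
      simp only [map_mul, map_pow, map_inv, mul_pow]
      group
    have h := Subgroup.mul_mem _ (Subgroup.mem_sup_left (T := K) hG') (Subgroup.mem_sup_right (S := commutator G) hν)
    rwa [inv_mul_cancel_right] at h
  have hKG : A ≤ commutator G ⊔ K := by
    intro a ha
    have hcop : Nat.Coprime p (q ^ s) := Nat.Coprime.pow_right _ ((Nat.coprime_primes hp hq).2 hpq')
    have h2 := Nat.gcd_eq_gcd_ab p (q ^ s)
    rw [hcop.gcd_eq_one] at h2
    have h3 : a = (a ^ p) ^ (Nat.gcdA p (q ^ s)) * (a ^ q ^ s) ^ (Nat.gcdB p (q ^ s)) := by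
      rw [← zpow_natCast a p, ← zpow_natCast a (q ^ s), ← zpow_mul, ← zpow_mul, ← zpow_add, ← h2, Nat.cast_one, zpow_one]
    rw [h3]
    exact Subgroup.mul_mem _ (Subgroup.zpow_mem _ (hKp a ha) _)
      (Subgroup.zpow_mem _ (Subgroup.mem_sup_right (hKr a ha)) _)
  -- the chief factor
  let S : Set (Subgroup G) := {N | N.Normal ∧ K ≤ N ∧ N ≤ A ∧ N ≠ A}
  obtain ⟨N, ⟨hNn, hKN, hNA, hNne⟩, hNmax⟩ := (Set.toFinite S).exists_maximal ⟨K, hKn, le_rfl, hKA, hKne⟩
  have hchief : ∀ K' : Subgroup G, K'.Normal → N ≤ K' → K' ≤ A → K' = N ∨ K' = A := by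
    intro K' hK' h2 h3
    by_cases h4 : K' = A
    · exact Or.inr h4
    · exact Or.inl (le_antisymm (hNmax ⟨hK', hKN.trans h2, h3, h4⟩ h2) h2)
  have hnot : ¬ commutator G ≤ N := fun h => hNne (le_antisymm hNA (hKG.trans (sup_le h hKN)))
  have hpowN : ∀ a ∈ A, a ^ q ^ s ∈ N := fun a ha => hKN (hKr a ha)
  have hlt : ∃ a ∈ A, a ∉ N := by
    by_contra hcon
    push Not at hcon
    exact hNne (le_antisymm hNA hcon)
  have hexpo : ∀ a ∈ A, a ^ q ∈ N := by
    rcases hchief (pull A N (fun a => a ^ q) (hmulpow q)) (pull_normal hA hNn (hconjpow q))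
      (fun a ha => ⟨hNA ha, N.pow_mem ha q⟩) (fun a ha => ha.1) with h | h
    · exfalso
      obtain ⟨a, ha, haN⟩ := hlt
      have h2 : ∀ j : ℕ, a ^ q ^ j ∉ N := by
        intro j
        induction j with
        | zero => simpa using haN
        | succ j ih =>
          intro h3
          apply ih
          rw [← h]
          refine ⟨A.pow_mem ha _, ?_⟩
          show (a ^ q ^ j) ^ q ∈ N
          rwa [← pow_mul, ← pow_succ]
      exact h2 s (hpowN a ha)
    · intro a ha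
      rw [← h] at ha
      exact ha.2
  have hpgrp : IsPGroup q (A ⧸ N.subgroupOf A) := by
    intro g
    induction g using QuotientGroup.induction_on with
    | H g =>
    refine ⟨s, ?_⟩
    rw [← QuotientGroup.mk_pow, QuotientGroup.eq_one_iff, Subgroup.mem_subgroupOf]
    exact hpowN g g.2
  obtain ⟨a, ha⟩ := IsPGroup.iff_card.1 hpgrp
  refine ⟨N, q, a, ?_⟩
  refine {
    normN := hNn
    normM := hA
    le := hNA
    ne_top := hAt
    comm := hcA
    prime := hq
    pos := ?_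
    card := ha
    abel := ?_
    expo := hexpo
    chief := hchief
    free := ?_ }
  · rcases Nat.eq_zero_or_pos a with h0 | h0
    · exfalso
      rw [h0, pow_zero] at ha
      have h2 : N.relIndex A = 1 := ha
      rw [Subgroup.relIndex_eq_one] at h2
      exact hNne (le_antisymm hNA h2)
    · exact h0
  · rw [Subgroup.commutator_le]
    intro g hg h hh
    have e : g * h * g⁻¹ * h⁻¹ = (g * h) * (h * g)⁻¹ := by group
    rw [commutatorElement_def, e, hab g hg h hh, mul_inv_cancel]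
    exact N.one_mem
  · intro z hz g hg hzg
    rcases hchief (pull A N (fun a => z * a * z⁻¹ * a⁻¹) (hφmul z)) (pull_normal hA hNn (hφconj z))
      (fun a ha => ⟨hNA ha, N.mul_mem (hNn.conj_mem a ha z) (N.inv_mem ha)⟩) (fun a ha => ha.1) with h | h
    · rw [← h]
      exact ⟨hg, hzg⟩
    · exfalso
      apply hnot
      refine hsup N hNn z hz fun a ha => ?_
      rw [← h] at ha
      exact ha.2

/-! ### The general case -/

/-- **B6**: the Frobenius section. -/
theorem b6_frob {G : Type u} [Group G] [Finite G] {m : ℕ} (hm1 : 1 < m)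
    (hdiv : ∀ d ∈ charDegrees G, d ∣ m → d = 1 ∨ d = m)
    (hpq : ∀ (q : ℕ) (K : Subgroup G) [K.Normal], q.Prime → IsPGroup q (G ⧸ K) → commutator G ≤ K)
    (A : Subgroup G) (hA : A.Normal) (hcA : commutator G ≤ A) (hi : A.index = m)
    (hχ : ∃ χ : G → ℂ, IsIrrCharacter G χ ∧ χ 1 = (m : ℕ) ∧ ∀ g ∈ ⁅A, A⁆, χ g = χ 1) :
    ∃ (N : Subgroup G) (q a : ℕ), Frob G N A q a := by
  have hAt : A ≠ ⊤ := by
    rintro rfl
    rw [Subgroup.index_top] at hi
    omega
  have hDn : (⁅A, A⁆ : Subgroup G).Normal := Subgroup.commutator_normal A A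
  set D : Subgroup G := ⁅A, A⁆ with hD
  have hDA : D ≤ A := Subgroup.commutator_le_left A A
  set π := QuotientGroup.mk' D with hπ
  have hsurj : Function.Surjective π := QuotientGroup.mk'_surjective D
  have hker : π.ker = D := QuotientGroup.ker_mk' D
  have hcomap : (A.map π).comap π = A := by
    rw [Subgroup.comap_map_eq, hker, sup_eq_left.2 hDA]
  have hcm : commutator (G ⧸ D) = (commutator G).map π := by
    rw [commutator_def, commutator_def, Subgroup.map_commutator, Subgroup.map_top_of_surjective _ hsurj]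
  have hidx : (A.map π).index = m := by
    rw [← Subgroup.index_comap_of_surjective _ hsurj, hcomap, hi]
  have habq : ∀ a ∈ A.map π, ∀ b ∈ A.map π, a * b = b * a := by
    rintro _ ⟨a, ha, rfl⟩ _ ⟨b, hb, rfl⟩
    rw [← map_mul, ← map_mul]
    refine QuotientGroup.eq.2 ?_
    have h := Subgroup.commutator_mem_commutator (A.inv_mem hb) (A.inv_mem ha)
    rw [commutatorElement_def] at h
    have e : (a * b)⁻¹ * (b * a) = b⁻¹ * a⁻¹ * b⁻¹⁻¹ * a⁻¹⁻¹ := by group
    rw [e]
    exact h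
  have hAtq : A.map π ≠ ⊤ := by
    intro h
    rw [h, Subgroup.index_top] at hidx
    omega
  have hcAq : commutator (G ⧸ D) ≤ A.map π := by
    rw [hcm]
    exact Subgroup.map_mono hcA
  have hAq : (A.map π).Normal := hA.map π hsurj
  have hdivq : ∀ d ∈ charDegrees (G ⧸ D), d ∣ m → d = 1 ∨ d = m := fun d hd =>
    hdiv d (H424.DegTools.charDegrees_of_surjective π hsurj hd)
  have hpqq : ∀ (q : ℕ) (K : Subgroup (G ⧸ D)) [K.Normal], q.Prime → IsPGroup q ((G ⧸ D) ⧸ K) →
      commutator (G ⧸ D) ≤ K := by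
    intro q K hK hq hpg
    have h2 : IsPGroup q (G ⧸ K.comap π) := by
      intro g
      induction g using QuotientGroup.induction_on with
      | H g =>
      obtain ⟨j, hj⟩ := hpg (QuotientGroup.mk (π g))
      refine ⟨j, ?_⟩
      rw [← QuotientGroup.mk_pow, QuotientGroup.eq_one_iff] at hj ⊢
      rw [Subgroup.mem_comap, map_pow]
      exact hj
    rw [hcm]
    exact Subgroup.map_le_iff_le_comap.2 (hpq q (K.comap π) hq h2)
  have hGq : commutator (G ⧸ D) ≠ ⊥ := by
    obtain ⟨χ, hχ, h1, h2⟩ := hχ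
    rw [hcm, Ne, Subgroup.map_eq_bot_iff, hker]
    exact not_comm_le hm1 D hχ h1 h2
  obtain ⟨N, q, a, F⟩ := frob_abelian hpqq (A.map π) hAq hcAq hAtq habq
    (fun L hL hne => comm_le hdivq (A.map π) hAq hcAq hidx habq L hL hne) hGq
  have := F.normN
  refine ⟨N.comap π, q, a, ?_⟩
  refine {
    normN := inferInstance
    normM := hA
    le := by
      rw [← hcomap]
      exact Subgroup.comap_mono F.le
    ne_top := hAt
    comm := hcA
    prime := F.prime
    pos := F.pos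
    card := by
      rw [Subgroup.relIndex_comap]
      exact F.card
    abel := by
      have h : D ≤ N.comap π := hker.symm.le.trans (MonoidHom.ker_le_comap π N)
      exact h
    expo := fun x hx => by
      rw [Subgroup.mem_comap, map_pow]
      exact F.expo _ (Subgroup.mem_map_of_mem π hx)
    chief := ?_
    free := ?_ }
  · intro K hK h2 h3
    have h4 : π.ker ≤ K := (MonoidHom.ker_le_comap π N).trans h2
    have h5 : (K.map π).comap π = K := by rw [Subgroup.comap_map_eq, sup_eq_left.2 h4]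
    have h6 : N ≤ K.map π := by
      rw [← Subgroup.map_comap_eq_self_of_surjective hsurj N]
      exact Subgroup.map_mono h2
    rcases F.chief (K.map π) (hK.map π hsurj) h6 (Subgroup.map_mono h3) with h | h
    · left
      rw [← h, h5]
    · right
      rw [← h5, h, hcomap]
  · intro x hx g hg h2
    rw [Subgroup.mem_comap] at h2 ⊢
    refine F.free (π x) ?_ (π g) (Subgroup.mem_map_of_mem π hg) ?_
    · intro h3
      apply hx
      rw [← hcomap]
      exact h3
    · simpa only [map_mul, map_inv] using h2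

end Cfsg.Agent.H866.AN
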